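import Cfsg.Agent.H826.Geo.Basic
import Cfsg.Agent.LieClassical.HermBasic

/-!
# Geometry of one similitude of a hermitian space (S4324, task GEO-U)

`geo_su` : a similitude `X` (`X ^ p` a scalar) of a hermitian space of dimension at least four which is a scalar on all
large invariant sections is a scalar or irreducible.
-/

set_option autoImplicit false
set_option linter.unusedSectionVars false

namespace Cfsg.Agent.H826.Geo

open Cfsg.Agent.H847.Bs Cfsg.Agent.H826.Bs Module Cfsg.Agent.LieClassical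

/-- a hermitian form -/
structure HForm {F V : Type*} [Field F] [AddCommGroup V] [Module F V] (σ : F ≃+* F) (h : V → V → F) : Prop where
  add_left : ∀ u v w, h (u + v) w = h u w + h v w
  smul_left : ∀ (a : F) u v, h (a • u) v = a * h u v
  symm : ∀ u v, h v u = σ (h u v)
  nondeg : ∀ u, (∀ v, h u v = 0) → u = 0

section

variable {F V : Type*} [Field F] [AddCommGroup V] [Module F V] {σ : F ≃+* F} {h : V → V → F}

/-- the form attached to a hermitian form -/
def HForm.frm (hh : HForm σ h) : Frm F V where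
  B := h
  q _ := 0
  s := σ
  add_left := hh.add_left
  add_right x y z := by rw [hh.symm (y + z) x, hh.add_left, map_add, ← hh.symm, ← hh.symm]
  smul_left := hh.smul_left
  smul_right a x y := by rw [hh.symm (a • y) x, hh.smul_left, map_mul, ← hh.symm]
  refl x y hxy := by rw [hh.symm, hxy, map_zero]
  q_add _ _ _ := (add_zero 0).symm

variable (hh : HForm σ h)

theorem HForm.nd : hh.frm.Nd := hh.nondeg

theorem HForm.sng_iff {v : V} : Sng hh.frm v ↔ h v v = 0 :=
  (Geo.sng_iff (Φ := hh.frm) (fun _ _ _ => rfl)).trans ⟨fun hv => hv.1, fun hv => ⟨hv, rfl⟩⟩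

theorem HForm.ti_iff {A : Submodule F V} : hh.frm.TI A ↔ ∀ u ∈ A, ∀ v ∈ A, h u v = 0 :=
  ⟨fun hA => hA.1, fun hA => ⟨hA, fun _ _ => rfl⟩⟩

theorem HForm.singDim [Finite F] [FiniteDimensional F V] {q : ℕ} (hF : Nat.card F = q ^ 2) (hσ : ∀ a, σ a = a ^ q) :
    SingDim hh.frm 2 := by
  intro W hW
  have := Fintype.ofFinite F
  rw [Nat.card_eq_fintype_card] at hF
  have hpos : 0 < finrank F W := by omega
  obtain ⟨⟨u, hu⟩, hu0⟩ := @exists_ne W (finrank_pos_iff.mp hpos) 0
  have hu0' : u ≠ 0 := fun h0 => hu0 (Subtype.ext h0)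
  by_cases hs : h u u = 0
  · exact ⟨u, hu, hu0', hh.sng_iff.mpr hs⟩
  obtain ⟨w, hw, hwu⟩ := exists_mem_not_mem (K := W) (P := Submodule.span F {u}) (by rw [finrank_span_singleton hu0']; omega)
  set w' := w - (h w u / h u u) • u with hw'
  have h1 : h w' u = 0 := by
    rw [hw', sub_eq_add_neg, ← neg_smul, hh.add_left, hh.smul_left]
    field_simp
    ring
  have h1' : h u w' = 0 := by rw [hh.symm, h1, map_zero]
  have hw'0 : w' ≠ 0 := by
    intro h0
    apply hwu
    rw [Submodule.mem_span_singleton]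
    exact ⟨h w u / h u u, (sub_eq_zero.mp h0).symm⟩
  have hw'm : w' ∈ W := W.sub_mem hw (W.smul_mem _ hu)
  have hfix : ∀ v, h v v ^ q = h v v := fun v => by rw [← hσ, ← hh.symm]
  obtain ⟨x, hx⟩ := HermBasic.exists_norm_eq hF (c := -(h w' w' / h u u)) (by
    rw [HermBasic.neg_pow_q hF, div_pow, hfix, hfix])
  refine ⟨w' + x • u, W.add_mem hw'm (W.smul_mem _ hu), ?_, ?_⟩
  · intro h0
    apply hwu
    rw [Submodule.mem_span_singleton]
    refine ⟨h w u / h u u - x, ?_⟩
    rw [sub_smul]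
    have : w = (h w u / h u u) • u - x • u + (w' + x • u) := by rw [hw']; abel
    rw [h0, add_zero] at this
    exact this.symm
  · rw [hh.sng_iff]
    have e1 : h (w' + x • u) (w' + x • u) = h w' w' + h u u * (x * x ^ q) := by
      have a1 := hh.frm.add_right (w' + x • u) w' (x • u)
      change h (w' + x • u) (w' + x • u) = h (w' + x • u) w' + h (w' + x • u) (x • u) at a1
      have a2 := hh.frm.smul_right x (w' + x • u) u
      change h (w' + x • u) (x • u) = σ x * h (w' + x • u) u at a2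
      rw [a1, a2, hh.add_left, hh.add_left, hh.smul_left, hh.smul_left, h1, h1', hσ]
      ring
    rw [e1, hx]
    field_simp
    ring

end

/-- `X` acts as a scalar on `v^⊥ / v` -/
def PTs {F : Type*} {V : Type*} [Field F] [AddCommGroup V] [Module F V] (f : V → V → F) (X : V → V) (v : V) : Prop :=
  ∃ b : F, ∀ w, f v w = 0 → ∃ a : F, X w = b • w + a • v

/-- `g` is a scalar -/
def Scl (F : Type*) {V : Type*} [Field F] [AddCommGroup V] [Module F V] (g : V → V) : Prop := ∃ c : F, ∀ v, g v = c • v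

universe u v

theorem pt_of_pts {F : Type u} {V : Type v} [Field F] [AddCommGroup V] [Module F V] {Φ : Frm F V} {X : V ≃ₗ[F] V}
    (hpt : ∀ v, v ≠ 0 → Sng Φ v → (∃ a : F, X v = a • v) → PTs Φ.B (⇑X) v) : PT Φ X := by
  intro v hv hvs hva
  obtain ⟨b, hb⟩ := hpt v hv hvs hva
  refine ⟨b, fun w hw => ?_⟩
  obtain ⟨a, ha⟩ := hb w (Φ.refl _ _ (mem_prp1.mp hw))
  rw [ha, add_sub_cancel_left]
  exact Submodule.smul_mem _ _ (Submodule.mem_span_singleton_self v)

/-- **GEO-U** -/
theorem geo_su {F : Type u} {V : Type v} [Field F] [Finite F] [AddCommGroup V] [Module F V] [FiniteDimensional F V]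
    {q : ℕ} (hF : Nat.card F = q ^ 2) {σ : F ≃+* F} (hσ : ∀ a, σ a = a ^ q) {h : V → V → F} (hh : HForm σ h)
    {p : ℕ} (hp : p.Prime) (X : V ≃ₗ[F] V) {c : F} (hc : ∀ u v, h (X u) (X v) = c * h u v) (hXp : Scl F ⇑(X ^ p))
    {e : ℕ} (hN : 2 * e ≤ Module.finrank F V) (hN4 : 4 ≤ Module.finrank F V)
    (hiso : ∀ W : Submodule F V, (∀ u ∈ W, ∀ v ∈ W, h u v = 0) → (∀ v ∈ W, X v ∈ W) → 2 ≤ Module.finrank F W →
      e ≤ Module.finrank F W → ∃ a : F, ∀ v ∈ W, X v = a • v)
    (hpt : ∀ v, v ≠ 0 → h v v = 0 → (∃ a : F, X v = a • v) → PTs h (⇑X) v)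
    (hns : ∀ W : Submodule F V, (∀ u ∈ W, (∀ v ∈ W, h u v = 0) → u = 0) → (∀ v ∈ W, X v ∈ W) → W ≠ ⊤ →
      2 ≤ Module.finrank F W → e ≤ Module.finrank F W → ∃ a : F, ∀ v ∈ W, X v = a • v) :
    Scl F ⇑X ∨ ∀ W : Submodule F V, (∀ v ∈ W, X v ∈ W) → W = ⊥ ∨ W = ⊤ := by
  obtain ⟨l, hl⟩ := hXp
  have hfV : Nontrivial V := (finrank_pos_iff (R := F)).mp (by omega)
  have hk := hh.singDim hF hσ
  have hX : Sim hh.frm X c := ⟨hc, fun _ => (mul_zero c).symm⟩
  have hPT : PT hh.frm X := pt_of_pts fun v hv hvs => hpt v hv (hh.sng_iff.mp hvs)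
  have hNd := hh.nd
  by_cases hs : ∃ v, v ≠ 0 ∧ Sng hh.frm v ∧ ∃ a : F, X v = a • v
  · left
    obtain ⟨v, hv, hvs, a, hva⟩ := hs
    have hS : Star hh.frm X := by
      rcases Nat.lt_or_ge (finrank F V) 5 with h5 | h5
      · exact star_of_iso hNd hk (by omega) hPT fun W hW hWt hW2 => by
          obtain ⟨b, hb⟩ := hiso W hWt.1 hW (by omega) (by omega)
          exact ⟨b, hb⟩
      · exact star_of_pt hNd hk h5 h5 hPT
    obtain ⟨u, huv, hTI, hP⟩ := hS.pair hv hvs hva
    have h1 : ∀ z, h (X z - a • z) z = 0 := by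
      intro z
      obtain ⟨x, hx, hx0, hzx⟩ := exists_orth_of_pair z hNd (finrank_pair hv huv)
      obtain ⟨t, ht⟩ := Submodule.mem_span_singleton.mp (hP x hx hx0 z hzx)
      rw [← ht, hh.smul_left]
      have h2 : h x z = 0 := by rw [hh.symm]; change σ (hh.frm.B z x) = 0; rw [hzx, map_zero]
      rw [h2, mul_zero]
    refine ⟨a, fun z => ?_⟩
    rw [← sub_eq_zero]
    -- polarisation
    obtain ⟨t, ht⟩ : ∃ t : F, σ t ≠ t := by
      have := Fintype.ofFinite F
      rw [Nat.card_eq_fintype_card] at hF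
      obtain ⟨t, ht⟩ := HermBasic.exists_not_fixed hF
      exact ⟨t, by rwa [hσ]⟩
    refine hh.nondeg _ fun y => ?_
    have key : ∀ y z, h (X z - a • z) y + h (X y - a • y) z = 0 := by
      intro y z
      have h2 := h1 (z + y)
      have e1 : X (z + y) - a • (z + y) = (X z - a • z) + (X y - a • y) := by
        rw [map_add, smul_add]
        abel
      have e2 := hh.frm.add_right (X (z + y) - a • (z + y)) z y
      change h _ (z + y) = h _ z + h _ y at e2
      rw [e2, e1, hh.add_left, hh.add_left, h1 z, h1 y, zero_add, add_zero, add_comm] at h2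
      exact h2
    have h3 := key y z
    have h4 := key (t • y) z
    have e3 := hh.frm.smul_right t (X z - a • z) y
    change h _ (t • y) = σ t * h _ y at e3
    have e4 : X (t • y) - a • (t • y) = t • (X y - a • y) := by
      rw [map_smul, smul_sub, smul_comm]
    rw [e3, e4, hh.smul_left] at h4
    have h5 : (σ t - t) * h (X z - a • z) y = 0 := by linear_combination h4 - t * h3
    exact (mul_eq_zero.mp h5).resolve_left (sub_ne_zero.mpr ht)
  -- no singular eigenvector
  push Not at hs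
  by_cases hp0 : (p : F) = 0
  · obtain ⟨m, hm | ⟨v, hv, hvm, hvo⟩⟩ := exists_of_char hp hp0 hl hNd hX
    · exact Or.inl ⟨m, hm⟩
    · exact absurd hvm (hs v hv (hh.sng_iff.mpr (hvo v hvm)) m)
  right
  have hl0 : l ≠ 0 := by
    rintro rfl
    obtain ⟨v, hv⟩ := exists_ne (0 : V)
    have h1 := hl v
    rw [zero_smul] at h1
    exact hv ((X ^ p).map_eq_zero_iff.mp h1)
  have hbig : ∀ W : Submodule F V, 2 ≤ finrank F W → ¬ ScOn X W := by
    rintro W hW ⟨b, hb⟩
    obtain ⟨v, hv, hv0, hvs⟩ := hk W hW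
    exact hs v hv0 hvs b (hb v hv)
  have hnd : ∀ D : Submodule F V, Inv X D → hh.frm.NdOn D → D = ⊥ ∨ D = ⊤ := by
    intro D hD hDn
    by_contra hcon
    push Not at hcon
    have hdec := dec_prp hDn
    have hf := Dec.finrank_add hdec
    rcases le_total (finrank F (prp hh.frm D)) (finrank F D) with h1 | h1
    · obtain ⟨b, hb⟩ := hns D hDn hD hcon.2 (by omega) (by omega)
      exact hbig D (by omega) ⟨b, hb⟩
    · have h2 : prp hh.frm D ≠ ⊤ := by
        intro h2
        have h3 := prp_prp hNd D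
        rw [h2] at h3
        apply hcon.1
        rw [← h3, eq_bot_iff]
        intro x hx
        exact hNd x fun y => hx y Submodule.mem_top
      obtain ⟨b, hb⟩ := hns (prp hh.frm D) (Dec.ndOn_right hdec hNd) (inv_prp hX hD) h2 (by omega) (by omega)
      exact hbig _ (by omega) ⟨b, hb⟩
  intro Y hY
  by_contra hcon
  push Not at hcon
  obtain ⟨W, hWY, hW⟩ := exists_irr_le (X := X) hY hcon.1
  have hWt : W ≠ ⊤ := fun h1 => hcon.2 (eq_top_iff.mpr (h1 ▸ hWY))
  rcases irr_cases hX hW with h1 | h1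
  · rcases hnd W hW.inv h1 with h2 | h2
    · exact hW.ne_bot h2
    · exact hWt h2
  · obtain ⟨H, -, hUH, hHi, hHn, hHf⟩ := exists_hyp hp0 hl0 hl hNd hX
      (U := W) (D := ⊤) (fun x _ hx => hNd x fun y => hx y Submodule.mem_top) (fun _ _ => Submodule.mem_top)
      hW.inv le_top h1
    rcases hnd H hHi hHn with h2 | h2
    · exact hW.ne_bot (eq_bot_iff.mpr (h2 ▸ hUH))
    · rw [h2, finrank_top] at hHf
      obtain ⟨b, hb⟩ := hiso W (fun u hu v hv => h1 hu v hv) hW.inv (by omega) (by omega)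
      exact hbig W (by omega) ⟨b, hb⟩

end Cfsg.Agent.H826.Geo
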