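import Cfsg.Agent.H826.Geo.Schur
import Cfsg.Agent.H826.Bs.Types
import Cfsg.Agent.LieClassical.HermBasic

/-!
# Irreducible similitudes of quadratic forms (S4324, task GEO-O)

* `res` : restriction of `X` to an invariant subspace;
* `card_zero` : the number of singular vectors of a space of plus type;
* `not_plus_of_irr` : a space with an irreducible similitude has minus type (dimension at least three);
* `exists_diag` : two isomorphic irreducible nondegenerate orthogonal summands give a totally singular one.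
-/

set_option autoImplicit false
set_option linter.unusedSectionVars false

namespace Cfsg.Agent.H826.Geo

open Cfsg.Agent.H847.Bs Cfsg.Agent.H826.Bs Module QuadraticMap
open Cfsg.Agent.LieClassical Cfsg.Agent.LieClassical.OrthCore

universe u v

section Res

variable {F : Type u} {V : Type v} [Field F] [AddCommGroup V] [Module F V] [FiniteDimensional F V] {X : V ≃ₗ[F] V}
  {D : Submodule F V}

/-- restriction to an invariant subspace -/
noncomputable def res (h : Inv X D) : D ≃ₗ[F] D := (X.submoduleMap D).trans (LinearEquiv.ofEq _ _ (inv_map_eq h))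

theorem res_coe (h : Inv X D) (v : D) : ((res h v : D) : V) = X v := rfl

theorem res_irr (h : Irr X D) (Y : Submodule F D) (hY : Inv (res h.inv) Y) : Y = ⊥ ∨ Y = ⊤ := by
  have h1 : Inv X (Y.map D.subtype) := by
    rintro _ ⟨v, hv, rfl⟩
    exact ⟨res h.inv v, hY v hv, rfl⟩
  rcases h.min (Y.map D.subtype) (Submodule.map_subtype_le _ _) h1 with h2 | h2
  · left
    rw [eq_bot_iff]
    intro v hv
    have h3 : (v : V) ∈ Y.map D.subtype := ⟨v, hv, rfl⟩
    rw [h2, Submodule.mem_bot] at h3
    exact Subtype.ext h3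
  · right
    rw [eq_top_iff]
    intro v _
    have h3 : (v : V) ∈ Y.map D.subtype := by rw [h2]; exact v.2
    obtain ⟨w, hw, hwv⟩ := h3
    rwa [← Subtype.ext hwv]

theorem irr_top [Nontrivial V] (h : ∀ Y : Submodule F V, Inv X Y → Y = ⊥ ∨ Y = ⊤) : Irr X ⊤ :=
  ⟨fun _ _ => Submodule.mem_top, top_ne_bot, fun Y _ hY => h Y hY⟩

end Res

section Plus

variable {F : Type u} {V : Type v} [Field F] [Finite F] [AddCommGroup V] [Module F V] [FiniteDimensional F V]

/-- the number of singular vectors of a quadratic form of plus type -/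
theorem card_zero (Q : QuadraticForm F V) (hQ : Nondeg Q) (A : Submodule F V) (hA : (frmQ Q).TI A)
    (hd : 2 * finrank F A = finrank F V) :
    Nat.card F * Nat.card {v : V // Q v = 0} + Nat.card F ^ finrank F A =
      (Nat.card F ^ finrank F A) ^ 2 + Nat.card F * Nat.card F ^ finrank F A := by
  classical
  have : Finite V := Module.finite_of_finite F
  have := Fintype.ofFinite V
  have := Fintype.ofFinite F
  have h1 : ∑ c : F, gs Q c = (Nat.card F : ℂ) * (Nat.card {v : V // Q v = 0} : ℂ) := by
    have h2 : ∑ c : F, gs Q c = ∑ v : V, ∑ c : F, psi F (c * Q v) := by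
      rw [Finset.sum_comm]
      exact Finset.sum_congr rfl fun c _ => gs_eq Q c
    have h3 : ∀ v : V, ∑ c : F, psi F (c * Q v) = if Q v = 0 then (Nat.card F : ℂ) else 0 := by
      intro v
      split_ifs with hv
      · rw [Finset.sum_congr rfl fun c _ => by rw [hv, mul_zero, AddChar.map_zero_eq_one]]
        simp
      · exact sum_psi_const _ hv
    rw [h2, Finset.sum_congr rfl fun v _ => h3 v, ← Finset.sum_filter, Finset.sum_const, nsmul_eq_mul, mul_comm,
      ← Fintype.card_subtype, Nat.card_eq_fintype_card (α := {v : V // Q v = 0})]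
  have h4 : ∑ c : F, gs Q c = (Nat.card V : ℂ) + ((Nat.card F : ℂ) - 1) * (Nat.card F : ℂ) ^ finrank F A := by
    rw [← Finset.add_sum_erase _ _ (Finset.mem_univ (0 : F))]
    congr 1
    · rw [gs_eq, Finset.sum_congr rfl fun v _ => by rw [zero_mul, AddChar.map_zero_eq_one]]
      simp
    · rw [Finset.sum_congr rfl fun c hc => gs_plus Q hQ A hA hd (Finset.ne_of_mem_erase hc), Finset.sum_const,
        Finset.card_erase_of_mem (Finset.mem_univ _), nsmul_eq_mul, Finset.card_univ, ← Nat.card_eq_fintype_card,
        Nat.cast_sub Nat.card_pos, Nat.cast_one]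
  have h5 : (Nat.card V : ℂ) = ((Nat.card F : ℂ) ^ finrank F A) ^ 2 := by
    rw [card_eq_pow (F := F), ← hd, mul_comm, pow_mul]
    push_cast
    rfl
  rw [h1, h5] at h4
  have h6 : ((Nat.card F * Nat.card {v : V // Q v = 0} + Nat.card F ^ finrank F A : ℕ) : ℂ) =
      (((Nat.card F ^ finrank F A) ^ 2 + Nat.card F * Nat.card F ^ finrank F A : ℕ) : ℂ) := by
    push_cast
    rw [h4]
    ring
  exact_mod_cast h6

theorem card_dvd_of_free {G α : Type*} [Group G] [Finite G] [MulAction G α] [Finite α]
    (h : ∀ (g : G) (x : α), g • x = x → g = 1) : Nat.card G ∣ Nat.card α := by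
  classical
  have e := MulAction.selfEquivSigmaOrbitsQuotientStabilizer G α
  have : Fintype (Quotient (MulAction.orbitRel G α)) := Fintype.ofFinite _
  rw [Nat.card_congr e, Nat.card_sigma]
  refine Finset.dvd_sum fun i _ => ?_
  have h1 : MulAction.stabilizer G (Quotient.out i) = ⊥ := by
    rw [eq_bot_iff]
    intro g hg
    exact Subgroup.mem_bot.mpr (h g _ (MulAction.mem_stabilizer_iff.mp hg))
  show Nat.card G ∣ (MulAction.stabilizer G (Quotient.out i)).index
  rw [h1, Subgroup.index_bot]

theorem ne_bot_of_finrank {W : Submodule F V} (h : 1 ≤ finrank F W) : W ≠ ⊥ := by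
  rintro rfl
  rw [finrank_bot] at h
  omega

/-- **a quadratic space with an irreducible similitude has minus type** -/
theorem not_plus_of_irr {Q : QuadraticForm F V} (hQ : Nondeg Q) (X : V ≃ₗ[F] V)
    (hirr : ∀ Y : Submodule F V, Inv X Y → Y = ⊥ ∨ Y = ⊤) {c : F} (hXQ : ∀ v, Q (X v) = c * Q v)
    (h3 : 3 ≤ finrank F V) : ¬ PlusT Q := by
  classical
  rintro ⟨A, hA, hd⟩
  have hfV : Finite V := Module.finite_of_finite F
  have hV : Nontrivial V := (finrank_pos_iff (R := F)).mp (by omega)
  have hXB : ∀ v w, polar Q (X v) (X w) = c * polar Q v w := by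
    intro v w
    simp only [polar]
    rw [← map_add, hXQ, hXQ, hXQ]
    ring
  have hc : c ≠ 0 := Sim.c_ne (Φ := frmQ Q) hQ ⟨hXB, hXQ⟩
  set a := Nat.card F ^ finrank F A with ha
  have haV : a * a = Nat.card V := by
    rw [card_eq_pow (F := F), ← hd, ha, ← pow_add, two_mul]
  obtain ⟨K, _, _, ρ, hK, hρ, hρX, -⟩ := exists_field (B := fun v w => polar Q v w) (fun u v w => polar_add_left ..)
    (fun a v w => by rw [polar_smul_left, smul_eq_mul]) (fun v w => polar_comm ..)
    (fun w hw => hQ w fun v => by rw [polar_comm]; exact hw v) X hirr hc hXB h3 haV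
  have := Fintype.ofFinite K
  rw [Nat.card_eq_fintype_card] at hK
  have hW := irr_top hirr
  -- norm one elements are isometries
  have hiso : ∀ z : K, z * z ^ a = 1 → ∀ v, Q (ρ z v) = Q v := by
    intro z hz
    have hB : ∀ v w, polar Q (ρ z v) (ρ z w) = polar Q v w := by
      intro v w
      rw [hρ, ← Module.End.mul_apply, ← map_mul, mul_comm, hz, map_one]
      rfl
    have h1 := ks hW (by rw [finrank_top]; omega) (fun v => Q (ρ z v) - Q v)
      (fun v _ w _ => by
        have e1 := hB v w
        simp only [polar] at e1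
        rw [← map_add] at e1
        linear_combination e1)
      (fun b v _ hv => by
        have hv' : Q (ρ z v) - Q v = 0 := hv
        rw [map_smul, QuadraticMap.map_smul, QuadraticMap.map_smul, ← smul_sub, hv', smul_zero])
      (fun v _ hv => by
        have hv' : Q (ρ z v) - Q v = 0 := hv
        rw [hρX, hXQ, hXQ, ← mul_sub, hv', mul_zero])
    intro v
    exact sub_eq_zero.mp (h1 v Submodule.mem_top)
  -- the action of the norm one group
  let C : Subgroup Kˣ := (powMonoidHom (a + 1) : Kˣ →* Kˣ).ker
  have hC : Nat.card C = a + 1 := by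
    rw [← HermBasic.card_norm_eq_one hK]
    refine Nat.card_congr
      { toFun := fun x => ⟨((x : Kˣ) : K), by
          have h1 : (x : Kˣ) ^ (a + 1) = 1 := x.2
          rw [← pow_succ', ← Units.val_pow_eq_pow_val, h1, Units.val_one]⟩
        invFun := fun x => ⟨Units.mk0 x.1 (fun h => by
          have := x.2; rw [h, zero_mul] at this; exact zero_ne_one this), by
          rw [MonoidHom.mem_ker]
          ext
          simp only [powMonoidHom_apply, Units.val_pow_eq_pow_val, Units.val_mk0, Units.val_one]
          rw [pow_succ']; exact x.2⟩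
        left_inv := fun x => by ext; rfl
        right_inv := fun x => rfl }
  have hCn : ∀ z : C, ((z : Kˣ) : K) * ((z : Kˣ) : K) ^ a = 1 := by
    intro z
    have h1 : (z : Kˣ) ^ (a + 1) = 1 := z.2
    rw [← pow_succ', ← Units.val_pow_eq_pow_val, h1, Units.val_one]
  have hρinj : ∀ (z : K) (v : V), z ≠ 0 → ρ z v = 0 → v = 0 := by
    intro z v hz hv
    have h1 : ρ (z⁻¹ * z) v = 0 := by
      rw [map_mul, Module.End.mul_apply, hv, map_zero]
    rw [inv_mul_cancel₀ hz, map_one] at h1
    exact h1
  let act : MulAction C {v : V // Q v = 0 ∧ v ≠ 0} :=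
    { smul := fun z v => ⟨ρ ((z : Kˣ) : K) v, by rw [hiso _ (hCn z)]; exact v.2.1,
        fun h => v.2.2 (hρinj _ _ (Units.ne_zero _) h)⟩
      one_smul := fun v => Subtype.ext (by
        change ρ (((1 : C) : Kˣ) : K) (v : V) = v
        rw [OneMemClass.coe_one, Units.val_one, map_one]
        rfl)
      mul_smul := fun z w v => Subtype.ext (by
        change ρ (((z * w : C) : Kˣ) : K) (v : V) = ρ ((z : Kˣ) : K) (ρ ((w : Kˣ) : K) v)
        rw [Subgroup.coe_mul, Units.val_mul, map_mul]
        rfl) }
  have hdvd : a + 1 ∣ Nat.card {v : V // Q v = 0 ∧ v ≠ 0} := by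
    rw [← hC]
    apply card_dvd_of_free
    intro z v hzv
    have h1 : ρ ((z : Kˣ) : K) (v : V) = v := congrArg Subtype.val hzv
    by_contra hz
    have h2 : ((z : Kˣ) : K) - 1 ≠ 0 := by
      intro h
      apply hz
      apply Subtype.ext
      apply Units.ext
      rw [sub_eq_zero] at h
      exact h
    apply v.2.2
    refine hρinj _ _ h2 ?_
    rw [map_sub, map_one, LinearMap.sub_apply, h1]
    exact sub_self _
  have hcard : Nat.card {v : V // Q v = 0} = Nat.card {v : V // Q v = 0 ∧ v ≠ 0} + 1 := by
    have h1 : Nat.card {v : V // Q v = 0} = Nat.card (Option {v : V // Q v = 0 ∧ v ≠ 0}) := by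
      refine Nat.card_congr
        { toFun := fun v => if h : (v : V) = 0 then none else some ⟨v, v.2, h⟩
          invFun := fun o => match o with
            | none => ⟨0, QuadraticMap.map_zero Q⟩
            | some v => ⟨v, v.2.1⟩
          left_inv := ?_
          right_inv := ?_ }
      · intro v
        by_cases h : (v : V) = 0
        · simp only [h, dite_true]
          exact Subtype.ext h.symm
        · simp only [h, dite_false]
      · intro o
        match o with
        | none => simp
        | some v => simp [v.2.2]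
    rw [h1, Finite.card_option]
  have hz := card_zero Q hQ A hA hd
  rw [hcard, ← ha] at hz
  obtain ⟨k, hk⟩ := hdvd
  rw [hk] at hz
  have hF : 2 ≤ Nat.card F := Finite.one_lt_card
  have ha2 : Nat.card F ^ 2 ≤ a := by
    rw [ha]
    exact Nat.pow_le_pow_right (by omega) (by omega)
  have hdv : ((a : ℤ) + 1) ∣ 2 * ((Nat.card F : ℤ) - 1) := by
    have hz' : ((Nat.card F : ℤ) * (((a : ℤ) + 1) * k + 1) + a) = (a : ℤ) ^ 2 + Nat.card F * a := by exact_mod_cast hz
    refine ⟨((a : ℤ) + Nat.card F - 2) - Nat.card F * k, ?_⟩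
    linear_combination hz'
  have h5 := Int.le_of_dvd (by have : (2 : ℤ) ≤ Nat.card F := by exact_mod_cast hF
                               linarith) hdv
  have ha2' : (Nat.card F : ℤ) ^ 2 ≤ a := by exact_mod_cast ha2
  nlinarith

/-- the same for invariant subspaces -/
theorem not_plus_on {Q : QuadraticForm F V} {X : V ≃ₗ[F] V} {D : Submodule F V} (hD : Irr X D) (hDn : (frmQ Q).NdOn D)
    {c : F} (hXQ : ∀ v, Q (X v) = c * Q v) (h3 : 3 ≤ finrank F D) :
    ¬ ∃ A ≤ D, (frmQ Q).TI A ∧ 2 * finrank F A = finrank F D := by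
  rw [← plusT_comp_iff]
  exact not_plus_of_irr (nd_comp_iff.mpr hDn) (res hD.inv) (res_irr hD) (c := c) (fun v => hXQ v) h3

/-- **two isomorphic orthogonal irreducible nondegenerate summands contain a diagonal totally singular one** -/
theorem exists_diag {Q : QuadraticForm F V} {X : V ≃ₗ[F] V} {W W' : Submodule F V} (hW : Irr X W)
    (hWn : (frmQ Q).NdOn W) (hW'n : (frmQ Q).NdOn W') (hdisj : W ⊓ W' = ⊥)
    (horth : ∀ u ∈ W, ∀ v ∈ W', polar Q u v = 0) {c : F} (hXQ : ∀ v, Q (X v) = c * Q v) (h3 : 3 ≤ finrank F W) {e : ℕ}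
    (he : finrank F W = 2 * e) (T : W ≃ₗ[F] W') (hT : ∀ w : W, ∀ h : X w ∈ W, (T ⟨X w, h⟩ : V) = X (T w)) :
    ∃ G : Submodule F V, (frmQ Q).TI G ∧ Inv X G ∧ finrank F G = finrank F W := by
  classical
  have hfV : Finite V := Module.finite_of_finite F
  have hWnt : Nontrivial W := (finrank_pos_iff (R := F)).mp (by omega)
  have hXB : ∀ v w, polar Q (X v) (X w) = c * polar Q v w := by
    intro v w
    simp only [polar]
    rw [← map_add, hXQ, hXQ, hXQ]
    ring
  let B1 : W → W → F := fun x y => polar Q (x : V) (y : V)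
  let B2 : W → W → F := fun x y => polar Q (T x : V) (T y : V)
  have hB1add : ∀ u v w, B1 (u + v) w = B1 u w + B1 v w := fun u v w => polar_add_left ..
  have hB1smul : ∀ (a : F) v w, B1 (a • v) w = a * B1 v w := fun a v w => by
    change polar Q (a • (v : V)) w = _
    rw [polar_smul_left, smul_eq_mul]
  have hB1sym : ∀ v w, B1 w v = B1 v w := fun v w => polar_comm ..
  have hB1nd : ∀ w, (∀ v, B1 v w = 0) → w = 0 := by
    intro w hw
    apply Subtype.ext
    refine hWn w w.2 fun y hy => ?_
    change polar Q (w : V) y = 0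
    rw [polar_comm]
    exact hw ⟨y, hy⟩
  have hB2sym : ∀ v w, B2 w v = B2 v w := fun v w => polar_comm ..
  set XW := res hW.inv with hXW
  have hTX : ∀ w : W, (T (XW w) : V) = X (T w) := fun w => hT w (XW w).2
  have hX1 : ∀ v w, B1 (XW v) (XW w) = c * B1 v w := fun v w => hXB v w
  have hX2 : ∀ v w, B2 (XW v) (XW w) = c * B2 v w := by
    intro v w
    change polar Q (T (XW v) : V) (T (XW w) : V) = _
    rw [hTX, hTX, hXB]
  have hc : c ≠ 0 := by
    rintro rfl
    obtain ⟨w, hw⟩ := exists_ne (0 : W)
    apply hw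
    apply hB1nd
    intro v
    have h1 := hX1 (XW.symm v) (XW.symm w)
    rw [XW.apply_symm_apply, XW.apply_symm_apply, zero_mul] at h1
    exact h1
  set a := Nat.card F ^ e with ha
  have haW : a * a = Nat.card W := by
    rw [card_eq_pow (F := F), he, ha, ← pow_add, two_mul]
  obtain ⟨K, _, _, ρ, hK, hρ, hρX, hρs⟩ := exists_field hB1add hB1smul hB1sym hB1nd XW (res_irr hW) hc hX1 h3 haW
  have := Fintype.ofFinite K
  rw [Nat.card_eq_fintype_card] at hK
  have hB1sym' : ∀ v w, B1 w v = 1 * (RingHom.id F) (B1 v w) := fun v w => by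
    rw [one_mul, RingHom.id_apply]; exact hB1sym v w
  have hbij := H371.Alg.dl_bijective hB1add hB1smul hB1sym' hB1nd
  have huniq : ∀ w w', (∀ v, B1 v w = B1 v w') → w = w' := by
    intro w w' h
    apply hbij.1
    ext v
    exact h v
  -- the second form
  have hex : ∀ x : W, ∃ x' : W, ∀ y, B1 y x' = B2 y x := by
    intro x
    obtain ⟨x', hx'⟩ := hbij.2
      { toFun := fun y => B2 y x
        map_add' := fun y z => by
          change polar Q (T (y + z) : V) (T x : V) = polar Q (T y : V) (T x : V) + polar Q (T z : V) (T x : V)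
          rw [map_add, Submodule.coe_add, polar_add_left]
        map_smul' := fun b y => by
          change polar Q (T (b • y) : V) (T x : V) = b • polar Q (T y : V) (T x : V)
          rw [map_smul, Submodule.coe_smul, polar_smul_left] }
    exact ⟨x', fun y => LinearMap.congr_fun hx' y⟩
  choose h hh using hex
  have hB1radd : ∀ v u w, B1 v (u + w) = B1 v u + B1 v w := fun v u w => by rw [hB1sym, hB1add, hB1sym, hB1sym v w]
  have hB1rsmul : ∀ (b : F) v w, B1 v (b • w) = b * B1 v w := fun b v w => by rw [hB1sym, hB1smul, hB1sym]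
  let hL : Module.End F W :=
    { toFun := h
      map_add' := fun x y => huniq _ _ fun v => by
        rw [hB1radd, hh, hh, hh]
        change polar Q (T v : V) (T (x + y) : V) = _
        rw [map_add, Submodule.coe_add, polar_add_right]
      map_smul' := fun b x => huniq _ _ fun v => by
        rw [RingHom.id_apply, hB1rsmul, hh, hh]
        change polar Q (T v : V) (T (b • x) : V) = _
        rw [map_smul, Submodule.coe_smul, polar_smul_right, smul_eq_mul] }
  have hLv : ∀ y x, B1 y (hL x) = B2 y x := fun y x => hh x y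
  obtain ⟨z, hz⟩ := hρs hL (fun v => by
    apply huniq
    intro y
    obtain ⟨y, rfl⟩ := XW.surjective y
    rw [hLv, hX2, hX1, hLv])
  have hρinj : Function.Injective ρ := ρ.injective
  have hza : z ^ a = z := by
    apply hρinj
    apply LinearMap.ext
    intro w
    apply huniq
    intro v
    rw [← hρ, hB1sym, hz, hLv, hLv, hB2sym]
  have hz0 : z ≠ 0 := by
    rintro rfl
    rw [map_zero] at hz
    obtain ⟨x, hx⟩ := exists_ne (0 : W)
    apply hx
    have h1 : (T x : V) = 0 := by
      refine hW'n _ (T x).2 fun y hy => ?_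
      obtain ⟨y', hy'⟩ := T.surjective ⟨y, hy⟩
      have h2 := hLv y' x
      rw [← hz, LinearMap.zero_apply, hB1sym] at h2
      have h3 : B1 0 y' = 0 := by
        have := hB1smul 0 0 y'
        rwa [zero_smul, zero_mul] at this
      rw [h3] at h2
      change polar Q (T x : V) y = 0
      rw [polar_comm]
      have h4 : (T y' : V) = y := by rw [hy']
      rw [← h4]
      exact h2.symm
    have h2 : T x = 0 := Subtype.ext h1
    exact T.map_eq_zero_iff.mp h2
  obtain ⟨y, hy⟩ := HermBasic.exists_norm_eq hK (c := -z⁻¹) (by rw [HermBasic.neg_pow_q hK, inv_pow, hza])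
  let g : W →ₗ[F] V := W.subtype + W'.subtype ∘ₗ (T : W →ₗ[F] W') ∘ₗ ρ y
  have hg : ∀ w, g w = (w : V) + (T (ρ y w) : V) := fun w => rfl
  have hgB : ∀ w w', polar Q (g w) (g w') = 0 := by
    intro w w'
    have e1 : polar Q (T (ρ y w) : V) (w' : V) = 0 := by
      rw [polar_comm]
      exact horth _ w'.2 _ (T (ρ y w)).2
    rw [hg, hg, polar_add_left, polar_add_right, polar_add_right, horth _ w.2 _ (T (ρ y w')).2, e1, add_zero, zero_add]
    change B1 w w' + B2 (ρ y w) (ρ y w') = 0
    rw [← hLv, ← hz, hρ, ← Module.End.mul_apply, ← Module.End.mul_apply, ← map_mul, ← map_mul]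
    have h1 : y ^ a * z * y = -1 := by
      calc y ^ a * z * y = z * (y * y ^ a) := by ring
        _ = -1 := by rw [hy]; field_simp
    rw [h1, map_neg, map_one]
    change B1 w w' + B1 w (-w') = 0
    have h2 := hB1radd w w' (-w')
    rw [add_neg_cancel] at h2
    rw [← h2, hB1sym]
    have h3 := hB1smul 0 0 w
    rwa [zero_smul, zero_mul] at h3
  have hgX : ∀ w, g (XW w) = X (g w) := by
    intro w
    rw [hg, hg, hρX, hTX, map_add]
    rfl
  have hgQ : ∀ w, Q (g w) = 0 := by
    intro w
    refine ks (irr_top (res_irr hW)) (by rw [finrank_top]; omega) (fun w => Q (g w)) ?_ ?_ ?_ w Submodule.mem_top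
    · intro v _ w _
      change Q (g (v + w)) = Q (g v) + Q (g w)
      have h1 := hgB v w
      simp only [polar] at h1
      rw [map_add]
      linear_combination h1
    · intro b v _ hv
      change Q (g (b • v)) = 0
      have hv' : Q (g v) = 0 := hv
      rw [map_smul, QuadraticMap.map_smul, hv', smul_zero]
    · intro v _ hv
      change Q (g (XW v)) = 0
      have hv' : Q (g v) = 0 := hv
      rw [hgX, hXQ, hv', mul_zero]
  refine ⟨LinearMap.range g, ⟨?_, ?_⟩, ?_, ?_⟩
  · rintro _ ⟨w, rfl⟩ _ ⟨w', rfl⟩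
    exact hgB w w'
  · rintro _ ⟨w, rfl⟩
    exact hgQ w
  · rintro _ ⟨w, rfl⟩
    exact ⟨XW w, hgX w⟩
  · apply LinearMap.finrank_range_of_inj
    rw [← LinearMap.ker_eq_bot, LinearMap.ker_eq_bot']
    intro w hw
    rw [hg] at hw
    have h1 : (w : V) ∈ W ⊓ W' := by
      refine ⟨w.2, ?_⟩
      rw [eq_neg_of_add_eq_zero_left hw]
      exact W'.neg_mem (T (ρ y w)).2
    rw [hdisj, Submodule.mem_bot] at h1
    exact Subtype.ext h1

end Plus

end Cfsg.Agent.H826.Geo
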