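import Cfsg.Agent.H826.Geo.Basic
import Cfsg.Agent.H371.AlgLemma

/-!
# The field of an irreducible similitude (S4324, task GEO-O)

`X` an irreducible similitude of a nondegenerate symmetric bilinear form on `V`, `dim V ≥ 3`, `|V| = a ^ 2`:
* `exists_field` : the centralizer of `X` is a field `K` with `|K| = |V|`, the adjoint is `z ↦ z ^ a`;
* `ks` : additive functions with invariant zero sets vanish on irreducible subspaces of dimension at least two.
-/

set_option autoImplicit false
set_option linter.unusedSectionVars false

namespace Cfsg.Agent.H826.Geo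

open Cfsg.Agent.H847.Bs Cfsg.Agent.H826.Bs Module

universe u v

/-- additive functions with invariant zero sets vanish on irreducible subspaces of dimension at least two -/
theorem ks {F : Type u} {V : Type v} [Field F] [Finite F] [AddCommGroup V] [Module F V] [FiniteDimensional F V]
    {X : V ≃ₗ[F] V} {W : Submodule F V} (hW : Irr X W) (h2 : 2 ≤ finrank F W) (δ : V → F)
    (hadd : ∀ v ∈ W, ∀ w ∈ W, δ (v + w) = δ v + δ w) (hsmul : ∀ (a : F), ∀ v ∈ W, δ v = 0 → δ (a • v) = 0)
    (hX : ∀ v ∈ W, δ v = 0 → δ (X v) = 0) : ∀ v ∈ W, δ v = 0 := by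
  have h0 : δ 0 = 0 := by
    have := hadd 0 W.zero_mem 0 W.zero_mem
    rw [add_zero] at this
    exact left_eq_add.mp this
  let Y : Submodule F V :=
    { carrier := {v | v ∈ W ∧ δ v = 0}
      add_mem' := by
        rintro v w ⟨hv, hv0⟩ ⟨hw, hw0⟩
        exact ⟨W.add_mem hv hw, by rw [hadd v hv w hw, hv0, hw0, add_zero]⟩
      zero_mem' := ⟨W.zero_mem, h0⟩
      smul_mem' := by
        rintro a v ⟨hv, hv0⟩
        exact ⟨W.smul_mem a hv, hsmul a v hv hv0⟩ }
  rcases hW.min Y (fun v hv => hv.1) (fun v hv => ⟨hW.inv v hv.1, hX v hv.1 hv.2⟩) with h | h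
  · exfalso
    have hinj : Function.Injective (fun v : W => δ v) := by
      intro v w hvw
      have hvw' : δ v = δ w := hvw
      have h1 : ((v : V) - w) ∈ Y := by
        refine ⟨W.sub_mem v.2 w.2, ?_⟩
        have h2 := hadd ((v : V) - w) (W.sub_mem v.2 w.2) w w.2
        rw [sub_add_cancel, hvw'] at h2
        exact right_eq_add.mp h2
      rw [h, Submodule.mem_bot] at h1
      exact Subtype.ext (sub_eq_zero.mp h1)
    have h1 := Nat.card_le_card_of_injective _ hinj
    rw [Module.natCard_eq_pow_finrank (K := F) (V := W)] at h1
    have h3 : 1 < Nat.card F := Finite.one_lt_card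
    have h4 : Nat.card F ^ 2 ≤ Nat.card F ^ finrank F W := Nat.pow_le_pow_right (by omega) h2
    nlinarith
  · intro v hv
    have h1 : v ∈ Y := by rw [h]; exact hv
    exact h1.2

/-- the centralizer field -/
theorem exists_field {F : Type u} {V : Type v} [Field F] [Finite F] [AddCommGroup V] [Module F V] [FiniteDimensional F V]
    {B : V → V → F} (hadd : ∀ u v w, B (u + v) w = B u w + B v w) (hsmul : ∀ (c : F) v w, B (c • v) w = c * B v w)
    (hsym : ∀ v w, B w v = B v w) (hnd : ∀ w, (∀ v, B v w = 0) → w = 0) (X : V ≃ₗ[F] V)
    (hirr : ∀ Y : Submodule F V, Inv X Y → Y = ⊥ ∨ Y = ⊤) {c : F} (hc : c ≠ 0)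
    (hXB : ∀ v w, B (X v) (X w) = c * B v w) (h3 : 3 ≤ finrank F V) {a : ℕ} (ha : a * a = Nat.card V) :
    ∃ (K : Type v) (_ : Field K) (_ : Finite K) (ρ : K →+* Module.End F V), Nat.card K = a ^ 2 ∧
      (∀ z v w, B (ρ z v) w = B v (ρ (z ^ a) w)) ∧ (∀ z v, ρ z (X v) = X (ρ z v)) ∧
      ∀ g : Module.End F V, (∀ v, g (X v) = X (g v)) → ∃ z, ρ z = g := by
  have hfV : Finite V := Module.finite_of_finite F
  have hsym' : ∀ v w, B w v = 1 * (RingHom.id F) (B v w) := fun v w => by rw [one_mul, RingHom.id_apply]; exact hsym v w
  have hbij := H371.Alg.dl_bijective hadd hsmul hsym' hnd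
  have huniq : ∀ w w', (∀ v, B v w = B v w') → w = w' := by
    intro w w' h
    apply hbij.1
    ext v
    exact h v
  have hext : ∀ a b : Module.End F V, (∀ v w, B v (a w) = B v (b w)) → a = b := by
    intro a b h
    ext w
    exact huniq _ _ (fun v => h v w)
  set x' : Module.End F V := (X : V →ₗ[F] V) with hx'
  have hx'v : ∀ v, x' v = X v := fun v => rfl
  -- Schur
  have hinj : ∀ g : Module.End F V, Commute g x' → g ≠ 0 → Function.Injective g := by
    intro g hg hg0
    rw [← LinearMap.ker_eq_bot]
    refine (hirr (LinearMap.ker g) ?_).resolve_right ?_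
    · intro v hv
      rw [LinearMap.mem_ker] at hv ⊢
      have h1 := LinearMap.congr_fun hg.eq v
      rw [Module.End.mul_apply, Module.End.mul_apply, hv, map_zero] at h1
      exact h1
    · intro h
      exact hg0 (LinearMap.ker_eq_top.mp h)
  have hmem : ∀ a : Module.End F V, Commute a x' →
      a ∈ Subalgebra.centralizer F ({x'} : Set (Module.End F V)) := fun a ha =>
    (Subalgebra.mem_centralizer_iff F).2 (fun y hy => by rw [Set.mem_singleton_iff.1 hy]; exact ha.symm)
  have hmem' : ∀ a : Subalgebra.centralizer F ({x'} : Set (Module.End F V)),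
      Commute (a : Module.End F V) x' := fun a => (((Subalgebra.mem_centralizer_iff F).1 a.2) x' rfl).symm
  have : Finite (Module.End F V) := Module.finite_of_finite F
  have hnt : Nontrivial V := (finrank_pos_iff (R := F)).mp (by omega)
  have hdom : IsDomain (Subalgebra.centralizer F ({x'} : Set (Module.End F V))) := by
    have : NoZeroDivisors (Subalgebra.centralizer F ({x'} : Set (Module.End F V))) := by
      refine ⟨fun {a b} hab => ?_⟩
      by_cases ha0 : a = 0
      · exact Or.inl ha0
      right
      have h1 := hinj a (hmem' a) (fun h => ha0 (Subtype.ext h))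
      apply Subtype.ext
      apply LinearMap.ext
      intro v
      apply h1
      have h2 := LinearMap.congr_fun (congrArg Subtype.val hab) v
      change (a : Module.End F V) ((b : Module.End F V) v) = 0 at h2
      rw [h2]
      exact (map_zero _).symm
    have : Nontrivial (Subalgebra.centralizer F ({x'} : Set (Module.End F V))) := by
      refine ⟨0, 1, fun h => ?_⟩
      obtain ⟨v, hv⟩ := exists_ne (0 : V)
      exact hv (LinearMap.congr_fun (congrArg Subtype.val h) v).symm
    exact NoZeroDivisors.to_isDomain _
  have hfield := Finite.isDomain_to_isField (Subalgebra.centralizer F ({x'} : Set (Module.End F V)))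
  let _ : Field (Subalgebra.centralizer F ({x'} : Set (Module.End F V))) := hfield.toField
  -- adjoint
  choose st hst using H371.Alg.exists_adjoint hadd hsmul hsym' hnd
  have hst2 : ∀ a v w, B (st a v) w = B v (a w) := by
    intro a v w
    rw [hsym w (st a v), ← hst, ← hsym]
  have hstst : ∀ a, st (st a) = a := fun a => hext _ _ (fun v w => by rw [← hst, hst2])
  have hradd : ∀ u v w, B w (u + v) = B w u + B w v := fun u v w => H371.Alg.right_add hadd hsym' u v w
  have hstadd : ∀ a b, st (a + b) = st a + st b := fun a b => hext _ _ (fun v w => by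
    rw [← hst, LinearMap.add_apply, LinearMap.add_apply, hadd, hradd, ← hst, ← hst])
  have hstmul : ∀ a b, st (a * b) = st b * st a := fun a b => hext _ _ (fun v w => by
    rw [← hst, Module.End.mul_apply, Module.End.mul_apply, hst, hst])
  have hstone : st 1 = 1 := hext _ _ (fun v w => by rw [← hst]; rfl)
  have hstzero : st 0 = 0 := by
    have := hstadd 0 0
    rw [add_zero] at this
    exact left_eq_add.1 this
  set xi : Module.End F V := (X.symm : V →ₗ[F] V) with hxi
  have hxxi : x' * xi = 1 := by
    ext v
    exact X.apply_symm_apply v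
  have hxix : xi * x' = 1 := by
    ext v
    exact X.symm_apply_apply v
  have hrsmul : ∀ (a : F) v w, B v (a • w) = a * B v w := fun a v w => by rw [hsym, hsmul, hsym]
  have hstx : st x' = c • xi := hext _ _ (fun v w => by
    rw [← hst, hx'v, LinearMap.smul_apply, hrsmul, ← hXB v (xi w)]
    congr 1
    exact (X.apply_symm_apply w).symm)
  have hstmem : ∀ a : Subalgebra.centralizer F ({x'} : Set (Module.End F V)),
      Commute (st (a : Module.End F V)) x' := by
    intro a
    have h1 := congrArg st (hmem' a).eq
    rw [hstmul, hstmul, hstx, smul_mul_assoc, mul_smul_comm] at h1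
    have h2 : Commute (st (a : Module.End F V)) xi := (smul_right_injective _ hc h1).symm
    have h3 : x' * st (a : Module.End F V) = st (a : Module.End F V) * x' := by
      calc x' * st (a : Module.End F V) = x' * (st (a : Module.End F V) * xi) * x' := by
            rw [mul_assoc, mul_assoc, hxix, mul_one]
        _ = x' * (xi * st (a : Module.End F V)) * x' := by rw [h2.eq]
        _ = st (a : Module.End F V) * x' := by rw [← mul_assoc, hxxi, one_mul]
    exact h3.symm
  have hcom : ∀ a b : Module.End F V, Commute a x' → Commute b x' → a * b = b * a := by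
    intro a b ha hb
    have := hfield.mul_comm ⟨a, hmem a ha⟩ ⟨b, hmem b hb⟩
    exact congrArg Subtype.val this
  let f : Subalgebra.centralizer F ({x'} : Set (Module.End F V)) →+*
      Subalgebra.centralizer F ({x'} : Set (Module.End F V)) :=
    { toFun := fun a => ⟨st a, hmem _ (hstmem a)⟩
      map_one' := Subtype.ext hstone
      map_zero' := Subtype.ext hstzero
      map_add' := fun a b => Subtype.ext (hstadd a b)
      map_mul' := fun a b => Subtype.ext (by
        change st ((a : Module.End F V) * b) = st (a : Module.End F V) * st (b : Module.End F V)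
        rw [hstmul]
        exact hcom _ _ (hstmem b) (hstmem a)) }
  -- card
  obtain ⟨v0, hv0⟩ := exists_ne (0 : V)
  have hcardK : Nat.card (Subalgebra.centralizer F ({x'} : Set (Module.End F V))) = Nat.card V := by
    refine Nat.card_congr (Equiv.ofBijective
      (fun a : Subalgebra.centralizer F ({x'} : Set (Module.End F V)) => (a : Module.End F V) v0) ⟨?_, ?_⟩)
    · intro a b hab
      by_contra hne
      have h1 : (a : Module.End F V) - b ≠ 0 := by
        intro h
        exact hne (Subtype.ext (sub_eq_zero.1 h))
      have h2 : Commute ((a : Module.End F V) - b) x' := (hmem' a).sub_left (hmem' b)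
      have h3 := hinj _ h2 h1
      apply hv0
      apply h3
      rw [map_zero, LinearMap.sub_apply]
      exact sub_eq_zero.2 hab
    · let W : Submodule F V :=
        { carrier := {v | ∃ a : Subalgebra.centralizer F ({x'} : Set (Module.End F V)),
            (a : Module.End F V) v0 = v}
          add_mem' := by
            rintro _ _ ⟨a, rfl⟩ ⟨b, rfl⟩
            exact ⟨a + b, rfl⟩
          zero_mem' := ⟨0, rfl⟩
          smul_mem' := by
            rintro c _ ⟨a, rfl⟩
            exact ⟨c • a, rfl⟩ }
      have hW := hirr W (by
        rintro _ ⟨a, rfl⟩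
        exact ⟨⟨x', hmem x' (Commute.refl x')⟩ * a, rfl⟩)
      intro v
      rcases hW with h | h
      · exfalso
        have : v0 ∈ W := ⟨1, rfl⟩
        rw [h] at this
        exact hv0 ((Submodule.mem_bot F).1 this)
      · have : v ∈ W := by rw [h]; exact Submodule.mem_top
        exact this
  have hf := H371.Alg.eq_pow_of_involutive f (fun a => Subtype.ext (hstst a)) (by
    refine ⟨⟨x', hmem x' (Commute.refl x')⟩, fun h => ?_⟩
    have h1 : c • xi = x' := by
      rw [← hstx]
      exact congrArg Subtype.val h
    have h2 : ∀ v, X (X v) = c • v := by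
      intro v
      have h4 := LinearMap.congr_fun h1 (X v)
      rw [LinearMap.smul_apply] at h4
      have h5 : xi (X v) = v := X.symm_apply_apply v
      rw [h5] at h4
      exact h4.symm
    have h4 := hirr (Submodule.span F ({v0, X v0} : Set V)) (by
      intro z hz
      obtain ⟨s, t, rfl⟩ := Submodule.mem_span_pair.mp hz
      rw [map_add, map_smul, map_smul, h2]
      exact Submodule.add_mem _ (Submodule.smul_mem _ _ (Submodule.subset_span (by simp)))
        (Submodule.smul_mem _ _ (Submodule.smul_mem _ _ (Submodule.subset_span (by simp)))))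
    rcases h4 with h4 | h4
    · apply hv0
      have h5 : v0 ∈ Submodule.span F ({v0, X v0} : Set V) := Submodule.subset_span (by simp)
      rw [h4] at h5
      exact (Submodule.mem_bot F).mp h5
    · classical
      have h5 := finrank_span_finset_le_card (R := F) ({v0, X v0} : Finset V)
      rw [Finset.coe_pair, Set.finrank, h4, finrank_top] at h5
      have h6 := Finset.card_le_two (a := v0) (b := X v0)
      omega) (N := a) (by rw [ha, hcardK])
  refine ⟨Subalgebra.centralizer F ({x'} : Set (Module.End F V)), inferInstance, inferInstance,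
    { toFun := fun z => (z : Module.End F V), map_one' := rfl, map_mul' := fun _ _ => rfl, map_zero' := rfl,
      map_add' := fun _ _ => rfl }, by rw [hcardK, ← ha, pow_two], ?_, ?_, ?_⟩
  · intro z v w
    change B ((z : Module.End F V) v) w = B v (((z ^ a : Subalgebra.centralizer F ({x'} : Set (Module.End F V))) : Module.End F V) w)
    rw [← hf z, hst]
    rfl
  · intro z v
    exact LinearMap.congr_fun (hmem' z).eq v
  · intro g hg
    exact ⟨⟨g, hmem g (LinearMap.ext hg)⟩, rfl⟩

end Cfsg.Agent.H826.Geo
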